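import Mathlib.AlgebraicGeometry.Modules.Sheaf
import Mathlib.AlgebraicGeometry.Morphisms.ClosedImmersion
import Mathlib.Topology.Sheaves.SheafCondition.UniqueGluing
import Mathlib.Algebra.Category.Grp.Zero

/-!
# The restriction to a clopen subscheme is a split epimorphism
-/

set_option autoImplicit false

universe u

open CategoryTheory CategoryTheory.Limits AlgebraicGeometry TopologicalSpace Opposite

namespace Groth.Agent.EtSplit

variable {X P : Scheme.{u}} (j : X ⟶ P) [IsOpenImmersion j] [IsClosedImmersion j]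

/-- The complement of the image. -/
def compl : P.Opens := ⟨(Set.range j)ᶜ, j.isClosedEmbedding.isClosed_range.isOpen_compl⟩

theorem le_sup (U : P.Opens) : U ≤ j ''ᵁ j ⁻¹ᵁ U ⊔ (U ⊓ compl j) := fun x hx => by
  by_cases h : x ∈ Set.range j
  · obtain ⟨y, rfl⟩ := h
    exact Or.inl ⟨y, hx, rfl⟩
  · exact Or.inr ⟨hx, h⟩

theorem inf_eq_bot (U : P.Opens) : (j ''ᵁ j ⁻¹ᵁ U) ⊓ (U ⊓ compl j) = ⊥ := by
  refine Opens.ext (Set.eq_empty_of_forall_notMem fun x hx => ?_)
  obtain ⟨y, -, rfl⟩ := hx.1
  exact hx.2.2 ⟨y, rfl⟩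

variable (M : P.Modules)

theorem subsingleton_bot {V : P.Opens} (h : V = ⊥) : Subsingleton Γ(M, V) := by
  subst h
  exact AddCommGrpCat.subsingleton_of_isZero (TopCat.Sheaf.isTerminalOfEmpty ⟨M.presheaf, M.isSheaf⟩).isZero

/-- Restriction of sections. -/
noncomputable abbrev rs {U V : P.Opens} (h : V ≤ U) : Γ(M, U) ⟶ Γ(M, V) := M.presheaf.map (homOfLE h).op

theorem rs_rs {U V W : P.Opens} (h : V ≤ U) (h' : W ≤ V) (x : Γ(M, U)) :
    rs M h' (rs M h x) = rs M (h'.trans h) x :=
  (ConcreteCategory.congr_hom (M.presheaf.map_comp (homOfLE h).op (homOfLE h').op) x).symm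

theorem exists_unique_ext (U : P.Opens) (x : Γ(M, j ''ᵁ j ⁻¹ᵁ U)) :
    ∃! y : Γ(M, U), rs M (j.image_preimage_le U) y = x ∧ rs M (inf_le_left : U ⊓ compl j ≤ U) y = 0 := by
  let F : TopCat.Sheaf Ab P := ⟨M.presheaf, M.isSheaf⟩
  let V : Bool → P.Opens := fun b => cond b (j ''ᵁ j ⁻¹ᵁ U) (U ⊓ compl j)
  have hV : ∀ b, V b ≤ U := fun b => by cases b <;> first | exact j.image_preimage_le U | exact inf_le_left
  have hc : U ≤ iSup V := (le_sup j U).trans (sup_le (le_iSup V true) (le_iSup V false))
  let sf : ∀ b, Γ(M, V b) := fun b =>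
    match b with
    | true => x
    | false => 0
  obtain ⟨y, hy, huniq⟩ := F.existsUnique_gluing' V U (fun b => homOfLE (hV b)) hc sf (fun a b => by
    rcases a with _ | _ <;> rcases b with _ | _
    · rfl
    · exact @Subsingleton.elim _ (subsingleton_bot M ((inf_comm _ _).trans (inf_eq_bot j U))) _ _
    · exact @Subsingleton.elim _ (subsingleton_bot M (inf_eq_bot j U)) _ _
    · rfl)
  exact ⟨y, ⟨hy true, hy false⟩, fun z hz => huniq z fun b => by cases b <;> [exact hz.2; exact hz.1]⟩

/-- Extension by zero. -/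
noncomputable def extZero (U : P.Opens) (x : Γ(M, j ''ᵁ j ⁻¹ᵁ U)) : Γ(M, U) :=
  (exists_unique_ext j M U x).choose

theorem rs_extZero (U : P.Opens) (x : Γ(M, j ''ᵁ j ⁻¹ᵁ U)) :
    rs M (j.image_preimage_le U) (extZero j M U x) = x :=
  (exists_unique_ext j M U x).choose_spec.1.1

theorem rs_extZero_compl (U : P.Opens) (x : Γ(M, j ''ᵁ j ⁻¹ᵁ U)) :
    rs M (inf_le_left : U ⊓ compl j ≤ U) (extZero j M U x) = 0 :=
  (exists_unique_ext j M U x).choose_spec.1.2

theorem extZero_eq (U : P.Opens) (x : Γ(M, j ''ᵁ j ⁻¹ᵁ U)) (y : Γ(M, U))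
    (h₁ : rs M (j.image_preimage_le U) y = x) (h₂ : rs M (inf_le_left : U ⊓ compl j ≤ U) y = 0) :
    extZero j M U x = y :=
  ((exists_unique_ext j M U x).choose_spec.2 y ⟨h₁, h₂⟩).symm

/-- Extension by zero as a map of modules. -/
noncomputable def sect :
    (Scheme.Modules.pushforward j).obj ((Scheme.Modules.restrictFunctor j).obj M) ⟶ M :=
  ⟨PresheafOfModules.homMk
    { app := fun U => AddCommGrpCat.ofHom
        { toFun := fun x => extZero j M U.unop x
          map_zero' := extZero_eq j M _ _ _ (map_zero _) (map_zero _)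
          map_add' := fun a b => extZero_eq j M _ _ _
            ((map_add _ _ _).trans (congrArg₂ (· + ·) (rs_extZero j M _ a) (rs_extZero j M _ b)))
            ((map_add _ _ _).trans ((congrArg₂ (· + ·) (rs_extZero_compl j M _ a) (rs_extZero_compl j M _ b)).trans
              (add_zero 0))) }
      naturality := fun U V g => by
        ext x
        have hVU : V.unop ≤ U.unop := g.unop.le
        have hi : j ''ᵁ j ⁻¹ᵁ V.unop ≤ j ''ᵁ j ⁻¹ᵁ U.unop := j.image_mono (j.preimage_mono hVU)
        change extZero j M V.unop (rs M hi x) = rs M hVU (extZero j M U.unop x)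
        refine extZero_eq j M _ _ _ ?_ ?_
        · rw [rs_rs, ← rs_rs M (j.image_preimage_le U.unop) hi, rs_extZero]
        · rw [rs_rs, ← rs_rs M (inf_le_left : U.unop ⊓ compl j ≤ U.unop) (inf_le_inf_right _ hVU),
            rs_extZero_compl, map_zero] }
    fun U r x => by
      let r' : Γ(P, U.unop) := r
      let x' : Γ(M, j ''ᵁ j ⁻¹ᵁ U.unop) := x
      change extZero j M U.unop ((j.appIso (j ⁻¹ᵁ U.unop)).inv (j.app U.unop r') • x') = r' • extZero j M U.unop x'
      have hr : (j.appIso (j ⁻¹ᵁ U.unop)).inv (j.app U.unop r') =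
          P.presheaf.map (homOfLE (j.image_preimage_le U.unop)).op r' :=
        ConcreteCategory.congr_hom (Scheme.Hom.app_appIso_inv j U.unop) r'
      refine (congrArg (fun t => extZero j M U.unop (t • x')) hr).trans ?_
      refine extZero_eq j M _ _ _ ?_ ?_
      · exact (Scheme.Modules.map_smul M _ r' _).trans (congrArg (_ • ·) (rs_extZero j M U.unop x'))
      · exact (Scheme.Modules.map_smul M _ r' _).trans
          ((congrArg (_ • ·) (rs_extZero_compl j M U.unop x')).trans (smul_zero _))⟩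

theorem sect_unit : sect j M ≫ (Scheme.Modules.restrictAdjunction j).unit.app M = 𝟙 _ := by
  refine Scheme.Modules.hom_ext _ _ fun U => ?_
  ext x
  exact rs_extZero j M U x

/-- The restriction to a clopen subscheme is a split epimorphism. -/
theorem isSplitEpi_restrict_unit : IsSplitEpi ((Scheme.Modules.restrictAdjunction j).unit.app M) :=
  IsSplitEpi.mk' ⟨sect j M, sect_unit j M⟩

/-- The same for the pullback adjunction. -/
theorem isSplitEpi_pull_unit : IsSplitEpi ((Scheme.Modules.pullbackPushforwardAdjunction j).unit.app M) := by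
  have h := Adjunction.unit_leftAdjointUniq_hom_app (Scheme.Modules.restrictAdjunction j)
    (Scheme.Modules.pullbackPushforwardAdjunction j) M
  have := isSplitEpi_restrict_unit j M
  rw [← h]
  infer_instance

end Groth.Agent.EtSplit
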