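import Groth.Agent.EtSplit.Clopen
import Groth.Agent.FormalExist.BaseChange
import Mathlib.AlgebraicGeometry.Morphisms.FormallyUnramified
import Mathlib.AlgebraicGeometry.Morphisms.Etale
import Mathlib.AlgebraicGeometry.Morphisms.Finite

/-!
# The counit of a finite étale morphism is a split epimorphism
-/

set_option autoImplicit false

universe u

open CategoryTheory CategoryTheory.Limits AlgebraicGeometry

namespace Groth.Agent.EtSplit

open FormalExist.BaseChange

variable {X X' : Scheme.{u}} (p : X' ⟶ X) [IsFinite p] [Etale p]

theorem isSplitEpi_counit (V : X'.Modules) [V.IsQuasicoherent] :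
    IsSplitEpi ((Scheme.Modules.pullbackPushforwardAdjunction p).counit.app V) := by
  let a := pullback.fst p p
  let b := pullback.snd p p
  let d := pullback.diagonal p
  have H : IsPullback a b p p := IsPullback.of_hasPullback p p
  have ha : d ≫ a = 𝟙 X' := pullback.diagonal_fst p
  have hb : d ≫ b = 𝟙 X' := pullback.diagonal_snd p
  let adj₁ := Scheme.Modules.pullbackPushforwardAdjunction a
  let adjd := Scheme.Modules.pullbackPushforwardAdjunction d
  let M := (Scheme.Modules.pullback a).obj V
  let R := Scheme.Modules.pushforward d ⋙ Scheme.Modules.pushforward a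
  let eR : R ≅ 𝟭 _ := Scheme.Modules.pushforwardComp d a ≪≫ Scheme.Modules.pushforwardCongr ha ≪≫
    Scheme.Modules.pushforwardId X'
  let eL : Scheme.Modules.pullback a ⋙ Scheme.Modules.pullback d ≅ 𝟭 _ :=
    ((adj₁.comp adjd).ofNatIsoRight eR).leftAdjointUniq Adjunction.id
  have hR : R.IsEquivalence := Functor.isEquivalence_of_iso eR.symm
  have hL : (Scheme.Modules.pullback a ⋙ Scheme.Modules.pullback d).IsEquivalence :=
    Functor.isEquivalence_of_iso eL.symm
  have hu : IsIso ((adj₁.comp adjd).unit.app V) := inferInstance
  let η : M ⟶ (Scheme.Modules.pushforward d).obj V :=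
    adjd.unit.app M ≫ (Scheme.Modules.pushforward d).map (eL.hom.app V)
  have hk₀ : IsIso (adj₁.unit.app V ≫ (Scheme.Modules.pushforward a).map η) := by
    have he : adj₁.unit.app V ≫ (Scheme.Modules.pushforward a).map η =
        (adj₁.comp adjd).unit.app V ≫ R.map (eL.hom.app V) := by
      rw [Adjunction.comp_unit_app]
      simp only [η, R, Functor.map_comp, Category.assoc, Functor.comp_map]
      rfl
    rw [he]
    infer_instance
  have hη : IsSplitEpi η := by
    have := isSplitEpi_pull_unit d M
    exact inferInstanceAs (IsSplitEpi (adjd.unit.app M ≫ _))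
  let c : (Scheme.Modules.pushforward b).obj ((Scheme.Modules.pushforward d).obj V) ≅ V :=
    (Scheme.Modules.pushforwardComp d b ≪≫ Scheme.Modules.pushforwardCongr hb ≪≫
      Scheme.Modules.pushforwardId X').app V
  let r : (Scheme.Modules.pushforward b).obj M ⟶ V := (Scheme.Modules.pushforward b).map η ≫ c.hom
  have hr : IsSplitEpi r := inferInstanceAs (IsSplitEpi (_ ≫ _))
  let C := Scheme.Modules.pushforwardComp a p ≪≫ Scheme.Modules.pushforwardCongr H.w ≪≫
    (Scheme.Modules.pushforwardComp b p).symm
  let k : (Scheme.Modules.pushforward p).obj V ⟶ (Scheme.Modules.pushforward p).obj V :=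
    ψ H.w V ≫ (Scheme.Modules.pushforward p).map r
  have hk : k = (Scheme.Modules.pushforward p).map (adj₁.unit.app V ≫ (Scheme.Modules.pushforward a).map η) ≫
      C.hom.app _ ≫ (Scheme.Modules.pushforward p).map c.hom := by
    have hn := C.hom.naturality η
    simp only [Functor.comp_map] at hn
    simp only [k, r, Functor.map_comp, Category.assoc]
    rw [reassoc_of% hn]
    simp only [ψ, C, adj₁, M, Iso.trans_hom, Iso.symm_hom, NatTrans.comp_app, Category.assoc]
  have : IsIso k := by rw [hk]; infer_instance
  have hθ : θ H.w V ≫ r = (Scheme.Modules.pullback p).map k ≫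
      (Scheme.Modules.pullbackPushforwardAdjunction p).counit.app V := by
    rw [θ, ← Adjunction.homEquiv_naturality_right_symm, Adjunction.homEquiv_counit]
  have := isIso_θ H V
  have hc : (Scheme.Modules.pullbackPushforwardAdjunction p).counit.app V =
      inv ((Scheme.Modules.pullback p).map k) ≫ θ H.w V ≫ r := by
    rw [hθ, IsIso.inv_hom_id_assoc]
  rw [hc]
  infer_instance

end Groth.Agent.EtSplit
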